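import Cfsg.Agent.Comp.M12y.Data

set_option autoImplicit false
set_option maxRecDepth 100000
set_option Elab.async false

namespace Cfsg.Agent.Comp.M12y

theorem s0 : allR J.slpAt 0 17 = true := by decide +kernel
theorem l4 : J.lvlAt L4 [] = true := by decide +kernel
theorem q4_0 : allR (schChk J.E L4 [] J.AB h4 (nat_lit 1) (nat_lit 1)) 0 8 = true := by decide +kernel
theorem l3 : J.lvlAt L3 [L4] = true := by decide +kernel
theorem q3_0 : allR (schChk J.E L3 [L4] J.AB h3 (nat_lit 8) (nat_lit 255)) 0 9 = true := by decide +kernel
theorem l2 : J.lvlAt L2 [L3, L4] = true := by decide +kernel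
theorem q2_0 : allR (schChk J.E L2 [L3, L4] J.AB h2 (nat_lit 16) (nat_lit 65535)) 0 10 = true := by decide +kernel
theorem l1 : J.lvlAt L1 [L2, L3, L4] = true := by decide +kernel
theorem q1_0 : allR (schChk J.E L1 [L2, L3, L4] J.AB h1 (nat_lit 24) (nat_lit 16777215)) 0 11 = true := by decide +kernel
theorem l0 : J.lvlAt L0 [L1, L2, L3, L4] = true := by decide +kernel
theorem q0_0 : allR (schChk J.E L0 [L1, L2, L3, L4] J.AB h0 (nat_lit 32) (nat_lit 4294967295)) 0 12 = true := by decide +kernel
theorem rp : J.repsAt (nat_lit 15) xs = true := by decide +kernel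
noncomputable def t30 : ℕ := nat_lit 0x80302040400610183040400608001030400610186020680608303030200a48803030680618602020680660481040000b
theorem n30 : fullChk J.E [L0, L1, L2, L3, L4] R [nat_lit 104, nat_lit 64, nat_lit 32, nat_lit 48] t30 (nat_lit 48) (nat_lit 281474976710655) = true := by decide +kernel
noncomputable def t29 : ℕ := nat_lit 0x18104840680a483020408006903020604006083020484006101890406806601020402009801020202006488020204006
theorem n29 : fullChk J.E [L0, L1, L2, L3, L4] R [nat_lit 104, nat_lit 64, nat_lit 32, nat_lit 0] t29 (nat_lit 48) (nat_lit 281474976710655) = true := by decide +kernel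
noncomputable def t28 : ℕ := nat_lit 0x11002100000012000021000000000031322200
theorem n28 : redChk J.E [L0, L1, L2, L3, L4] J.AV [nat_lit 104, nat_lit 64, nat_lit 32] [nat_lit 807420008, nat_lit 35167158376] t28 [nat_lit 0, nat_lit 48] = true := by decide +kernel
noncomputable def t27 : ℕ := nat_lit 0x80901040680a90080040400a10900040400110000840680148106040680190303020080a18301840400a108048404001
theorem n27 : fullChk J.E [L0, L1, L2, L3, L4] R [nat_lit 104, nat_lit 64, nat_lit 48, nat_lit 32] t27 (nat_lit 48) (nat_lit 281474976710655) = true := by decide +kernel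
noncomputable def t26 : ℕ := nat_lit 0x906060404001900820906806801020400009083080106806089000604008109048404006101090406801100000206808
theorem n26 : fullChk J.E [L0, L1, L2, L3, L4] R [nat_lit 104, nat_lit 64, nat_lit 48, nat_lit 72] t26 (nat_lit 48) (nat_lit 281474976710655) = true := by decide +kernel
noncomputable def t25 : ℕ := nat_lit 0x12002100000011000000000000000032312221
theorem n25 : redChk J.E [L0, L1, L2, L3, L4] J.AV [nat_lit 104, nat_lit 64, nat_lit 48] [nat_lit 550563233896, nat_lit 310045065320] t25 [nat_lit 72, nat_lit 32] = true := by decide +kernel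
noncomputable def t24 : ℕ := nat_lit 0x42003200000021000022000000000011323131
theorem n24 : redChk J.E [L0, L1, L2, L3, L4] J.AV [nat_lit 104, nat_lit 64] [nat_lit 412721627240, nat_lit 69124243560] t24 [nat_lit 48, nat_lit 32] = true := by decide +kernel
noncomputable def t23 : ℕ := nat_lit 0x90908030680190308030680a80601830680110081840300180806030680a10900040300190306010000a08301040180a
theorem n23 : fullChk J.E [L0, L1, L2, L3, L4] R [nat_lit 104, nat_lit 32, nat_lit 64, nat_lit 48] t23 (nat_lit 48) (nat_lit 281474976710655) = true := by decide +kernel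
noncomputable def t22 : ℕ := nat_lit 0x10000890680110481830680348904818680148904840000110001808680310000840080148901060680360481880680a
theorem n22 : fullChk J.E [L0, L1, L2, L3, L4] R [nat_lit 104, nat_lit 32, nat_lit 64, nat_lit 96] t22 (nat_lit 48) (nat_lit 281474976710655) = true := by decide +kernel
noncomputable def t21 : ℕ := nat_lit 0x21001100000000000032000000000022213112
theorem n21 : redChk J.E [L0, L1, L2, L3, L4] J.AV [nat_lit 104, nat_lit 32, nat_lit 64] [nat_lit 310045065320, nat_lit 35167158376] t21 [nat_lit 96, nat_lit 48] = true := by decide +kernel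
noncomputable def t20 : ℕ := nat_lit 0x806000106803486048106803609060401009103000006803608060086803008060400009000020608009184860186809
theorem n20 : fullChk J.E [L0, L1, L2, L3, L4] R [nat_lit 104, nat_lit 32, nat_lit 48, nat_lit 64] t20 (nat_lit 48) (nat_lit 281474976710655) = true := by decide +kernel
noncomputable def t19 : ℕ := nat_lit 0x480010106804108048401806480010106808480010106803603018086801104890400001089000184808089048103005
theorem n19 : fullChk J.E [L0, L1, L2, L3, L4] R [nat_lit 104, nat_lit 32, nat_lit 48, nat_lit 16] t19 (nat_lit 48) (nat_lit 281474976710655) = true := by decide +kernel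
noncomputable def t18 : ℕ := nat_lit 0x11002200000021000012000000000031002132
theorem n18 : redChk J.E [L0, L1, L2, L3, L4] J.AV [nat_lit 104, nat_lit 32, nat_lit 48] [nat_lit 310045065320, nat_lit 619282710632] t18 [nat_lit 16, nat_lit 64] = true := by decide +kernel
noncomputable def t17 : ℕ := nat_lit 0x22003200000032000011000000000041224112
theorem n17 : redChk J.E [L0, L1, L2, L3, L4] J.AV [nat_lit 104, nat_lit 32] [nat_lit 549757927528, nat_lit 69929549928] t17 [nat_lit 48, nat_lit 64] = true := by decide +kernel
noncomputable def t16 : ℕ := nat_lit 0x21002200000011000021000032000012314232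
theorem n16 : redChk J.E [L0, L1, L2, L3, L4] J.AV [nat_lit 104] [nat_lit 2149073000, nat_lit 69933744232] t16 [nat_lit 32, nat_lit 64] = true := by decide +kernel
noncomputable def t15 : ℕ := nat_lit 0x90000830200100806030300100486010000a60906060900a08301090200a90908030300148002030200108902030300a
theorem n15 : fullChk J.E [L0, L1, L2, L3, L4] R [nat_lit 64, nat_lit 104, nat_lit 32, nat_lit 48] t15 (nat_lit 48) (nat_lit 281474976710655) = true := by decide +kernel
noncomputable def t14 : ℕ := nat_lit 0x90806018200348600010200390908000600100309048200190000800200110906000800a800860802003900008300801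
theorem n14 : fullChk J.E [L0, L1, L2, L3, L4] R [nat_lit 64, nat_lit 104, nat_lit 32, nat_lit 0] t14 (nat_lit 48) (nat_lit 281474976710655) = true := by decide +kernel
noncomputable def t13 : ℕ := nat_lit 0x12002100000031000021000000000032112200
theorem n13 : redChk J.E [L0, L1, L2, L3, L4] J.AV [nat_lit 64, nat_lit 104, nat_lit 32] [nat_lit 35167158376, nat_lit 310045065320] t13 [nat_lit 0, nat_lit 48] = true := by decide +kernel
noncomputable def t12 : ℕ := nat_lit 0x60000008600a10801840680718608040680d10300830200d18309040680d10600860180a80108040680790601080480d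
theorem n12 : fullChk J.E [L0, L1, L2, L3, L4] R [nat_lit 64, nat_lit 104, nat_lit 48, nat_lit 32] t12 (nat_lit 48) (nat_lit 281474976710655) = true := by decide +kernel
noncomputable def t11 : ℕ := nat_lit 0x106040400c60188040680c903008900803481000001003603030404007801010180001489048904801109090909003
theorem n11 : fullChk J.E [L0, L1, L2, L3, L4] R [nat_lit 64, nat_lit 104, nat_lit 48, nat_lit 24] t11 (nat_lit 48) (nat_lit 281474976710655) = true := by decide +kernel
noncomputable def t10 : ℕ := nat_lit 0x21001100000012000021000000000000323122
theorem n10 : redChk J.E [L0, L1, L2, L3, L4] J.AV [nat_lit 64, nat_lit 104, nat_lit 48] [nat_lit 103886635112, nat_lit 807420008] t10 [nat_lit 24, nat_lit 32] = true := by decide +kernel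
noncomputable def t9 : ℕ := nat_lit 0x12005100000052000041000000000031423221
theorem n9 : redChk J.E [L0, L1, L2, L3, L4] J.AV [nat_lit 64, nat_lit 104] [nat_lit 552173846632, nat_lit 550563233896] t9 [nat_lit 48, nat_lit 32] = true := by decide +kernel
noncomputable def t8 : ℕ := nat_lit 0x806000183003104800483003103010483009486048183003906060486009800060109009800060100809103000003003
theorem n8 : fullChk J.E [L0, L1, L2, L3, L4] R [nat_lit 64, nat_lit 32, nat_lit 104, nat_lit 48] t8 (nat_lit 48) (nat_lit 281474976710655) = true := by decide +kernel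
noncomputable def t7 : ℕ := nat_lit 0x48604818800348604810000300604818100e60806008180310301048480948600848100e48302040200e104800801003
theorem n7 : fullChk J.E [L0, L1, L2, L3, L4] R [nat_lit 64, nat_lit 32, nat_lit 104, nat_lit 96] t7 (nat_lit 48) (nat_lit 281474976710655) = true := by decide +kernel
noncomputable def t6 : ℕ := nat_lit 0x31003200000000000022000000000011211221
theorem n6 : redChk J.E [L0, L1, L2, L3, L4] J.AV [nat_lit 64, nat_lit 32, nat_lit 104] [nat_lit 550563233896, nat_lit 619282710632] t6 [nat_lit 96, nat_lit 48] = true := by decide +kernel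
noncomputable def t5 : ℕ := nat_lit 0x84860908002480008181806000008184806808030306007484860186002900890001002104818608007900018088002
theorem n5 : fullChk J.E [L0, L1, L2, L3, L4] R [nat_lit 64, nat_lit 32, nat_lit 48, nat_lit 104] t5 (nat_lit 48) (nat_lit 281474976710655) = true := by decide +kernel
noncomputable def t4 : ℕ := nat_lit 0x10908040400f10004840900810302090080210904880900c606080180004603018084801801820200803100020800805
theorem n4 : fullChk J.E [L0, L1, L2, L3, L4] R [nat_lit 64, nat_lit 32, nat_lit 48, nat_lit 16] t4 (nat_lit 48) (nat_lit 281474976710655) = true := by decide +kernel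
noncomputable def t3 : ℕ := nat_lit 0x22003200000021000031000000000021001211
theorem n3 : redChk J.E [L0, L1, L2, L3, L4] J.AV [nat_lit 64, nat_lit 32, nat_lit 48] [nat_lit 35167158376, nat_lit 807420008] t3 [nat_lit 16, nat_lit 104] = true := by decide +kernel
noncomputable def t2 : ℕ := nat_lit 0x32001200000021000031000000000011222231
theorem n2 : redChk J.E [L0, L1, L2, L3, L4] J.AV [nat_lit 64, nat_lit 32] [nat_lit 105228812392, nat_lit 309642412136] t2 [nat_lit 48, nat_lit 104] = true := by decide +kernel
noncomputable def t1 : ℕ := nat_lit 0x22003100000042000041000021000051521131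
theorem n1 : redChk J.E [L0, L1, L2, L3, L4] J.AV [nat_lit 64] [nat_lit 412585836648, nat_lit 268976232] t1 [nat_lit 32, nat_lit 104] = true := by decide +kernel
noncomputable def t0 : ℕ := nat_lit 0x7100a100000091000051000061001181413121
theorem n0 : redChk J.E [L0, L1, L2, L3, L4] J.AV [] [nat_lit 270016616] t0 [nat_lit 64, nat_lit 104] = true := by decide +kernel
theorem sp : specChk J.E [L0, L1, L2, L3, L4] R os [1, 2, 3, 4, 5, 6, 8, 10, 11] = true := by decide +kernel

end Cfsg.Agent.Comp.M12y
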