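import Cfsg.Agent.Comp.Std

set_option autoImplicit false
set_option maxRecDepth 100000
set_option Elab.async false

namespace Cfsg.Agent.Comp.M12y

noncomputable def c0 : ℕ := nat_lit 0xa8883898a0602848b0b86818505808407030782010900080
noncomputable def c1 : ℕ := nat_lit 0x7078b898a010b0002838689050588040a830882060184808
noncomputable def c2 : ℕ := nat_lit 0xb03878585080a81870886800a09860402830b82008489010
noncomputable def c3 : ℕ := nat_lit 0x28b8885850087090a8786848a0981040b030382080001860
noncomputable def c4 : ℕ := nat_lit 0x385898a0a880509078706860b0881840b810282048300008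
noncomputable def c5 : ℕ := nat_lit 0x387028509848880878b0686058a09040b820a83000108018
noncomputable def c6 : ℕ := nat_lit 0x3888a8a09818b0482870686050588020b830784090100008
noncomputable def c7 : ℕ := nat_lit 0x38a8b0a0580088087828406098501868b830702048108090
noncomputable def c8 : ℕ := nat_lit 0xa8883898a0602848b0b86818505808407030782010900080
noncomputable def c9 : ℕ := nat_lit 0x385098587800a0802888686070b00820b810a83018409048
noncomputable def c10 : ℕ := nat_lit 0x88a82850b018b890a0586830703860407808982010804800
noncomputable def c11 : ℕ := nat_lit 0xa83888b05080580098b86820a02808407090781810304860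
noncomputable def c12 : ℕ := nat_lit 0x707838a8a030580828b8688088b090409810502060481800
noncomputable def c13 : ℕ := nat_lit 0x5838882878189800a8506880a0701040b060b82048900830
noncomputable def c14 : ℕ := nat_lit 0x7078b898a010b0002838689050588040a830882060184808
noncomputable def c15 : ℕ := nat_lit 0x28b8885850087090a8786848a0981040b030382080001860
noncomputable def c16 : ℕ := nat_lit 0x50b82870b080981888a0684858786020a810383090080040
noncomputable def cs : List ℕ := [c0, c1, c2, c3, c4, c5, c6, c7, c8, c9, c10, c11, c12, c13, c14, c15, c16]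
noncomputable def ws : List (List ℕ) := [[], [], [], [], [], [], [], [], [nat_lit 0, nat_lit 7, nat_lit 7, nat_lit 7, nat_lit 7], [nat_lit 4, nat_lit 5, nat_lit 6], [nat_lit 8, nat_lit 9, nat_lit 8, nat_lit 9, nat_lit 9, nat_lit 9], [nat_lit 9, nat_lit 9, nat_lit 9, nat_lit 8, nat_lit 9, nat_lit 9, nat_lit 8, nat_lit 9, nat_lit 8, nat_lit 8, nat_lit 8, nat_lit 9], [nat_lit 11, nat_lit 10, nat_lit 11, nat_lit 10, nat_lit 10, nat_lit 10, nat_lit 11], [nat_lit 11, nat_lit 11, nat_lit 10, nat_lit 11, nat_lit 11, nat_lit 11], [nat_lit 12, nat_lit 12, nat_lit 12, nat_lit 13, nat_lit 13, nat_lit 12, nat_lit 12], [nat_lit 13, nat_lit 13, nat_lit 12, nat_lit 12, nat_lit 13, nat_lit 12, nat_lit 12], [nat_lit 2, nat_lit 9]]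
noncomputable def E : Env := ⟨nat_lit 8, nat_lit 255, cs, nat_lit 16⟩
noncomputable def bl : List ℕ := [nat_lit 0, nat_lit 1, nat_lit 2, nat_lit 3, nat_lit 4, nat_lit 5, nat_lit 6, nat_lit 7, nat_lit 8, nat_lit 9, nat_lit 10, nat_lit 11, nat_lit 12, nat_lit 13, nat_lit 14, nat_lit 15, nat_lit 16, nat_lit 17, nat_lit 18, nat_lit 19, nat_lit 20, nat_lit 21, nat_lit 22, nat_lit 23]
noncomputable def J : Job := ⟨nat_lit 24, E, nat_lit 8, nat_lit 17, ws, bl⟩
noncomputable def orb0 : ℕ := nat_lit 0x88048009018603010204068
noncomputable def idx0 : ℕ := nat_lit 0x7000a00000005000009010004000206030b08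
noncomputable def lab0 : ℕ := nat_lit 0x200030000000c0000040800060007010a0403
noncomputable def L0 : Lvl := ⟨nat_lit 104, nat_lit 12, orb0, idx0, lab0, nat_lit 4, nat_lit 0, nat_lit 8⟩
noncomputable def orb1 : ℕ := nat_lit 0x8000082060904830181040
noncomputable def idx1 : ℕ := nat_lit 0x5000a00000006000004000003000702010809
noncomputable def lab1 : ℕ := nat_lit 0x7000100000001000006000002000401020506
noncomputable def L1 : Lvl := ⟨nat_lit 64, nat_lit 11, orb1, idx1, lab1, nat_lit 3, nat_lit 8, nat_lit 2⟩
noncomputable def orb2 : ℕ := nat_lit 0x90801008301800486020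
noncomputable def idx2 : ℕ := nat_lit 0x9000800000001000002000005000004070603
noncomputable def lab2 : ℕ := nat_lit 0x1000200000002000001000004000003030102
noncomputable def L2 : Lvl := ⟨nat_lit 32, nat_lit 10, orb2, idx2, lab2, nat_lit 3, nat_lit 10, nat_lit 2⟩
noncomputable def orb3 : ℕ := nat_lit 0x81880601048009030
noncomputable def idx3 : ℕ := nat_lit 0x1000600000005000003000000000007040802
noncomputable def lab3 : ℕ := nat_lit 0x1000400000003000001000000000002020302
noncomputable def L3 : Lvl := ⟨nat_lit 48, nat_lit 9, orb3, idx3, lab3, nat_lit 3, nat_lit 12, nat_lit 2⟩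
noncomputable def orb4 : ℕ := nat_lit 0x18088060489010
noncomputable def idx4 : ℕ := nat_lit 0x1000400000003000002000000000006000507
noncomputable def lab4 : ℕ := nat_lit 0x1000200000001000002000000000001000102
noncomputable def L4 : Lvl := ⟨nat_lit 16, nat_lit 8, orb4, idx4, lab4, nat_lit 3, nat_lit 14, nat_lit 2⟩
noncomputable def os : List ℕ := [nat_lit 8, nat_lit 8, nat_lit 6, nat_lit 11, nat_lit 11, nat_lit 4, nat_lit 4, nat_lit 5, nat_lit 3, nat_lit 2, nat_lit 1, nat_lit 10, nat_lit 2, nat_lit 3, nat_lit 6]
noncomputable def h4 : ℕ := nat_lit 0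
noncomputable def h3 : ℕ := nat_lit 0x484810800808184810481810109090100000
noncomputable def h2 : ℕ := nat_lit 0x60301030103080080030101860181030089000600080103010309000904810301030004848108060
noncomputable def h1 : ℕ := nat_lit 0x801818103020484848088030101890901848183060600820801860103020080890103020101000003020103020083018001000103020103020103020808010183020
noncomputable def h0 : ℕ := nat_lit 0x606020200018304080102040083020401030204010302040103020401030204060602020001830408010204000302040103020401030204010302040103020406060202000183040801020401830204010302040486020401030204010302040606020200018304080102040803020404860204010302040103020401030204060602020001830408010204048302040103020401030204010302040486020406060202000183040801020409030204010302040103020404860204010302040906020201080004060302040104820401000204010002040100020401000204060602020001830401030204010302040483020400030204008302040803020406060202000183040801020401030204010302040103020401030204010302040606020201030204010302040801020400830204080302040483020400030204010302040103020400018304080102040183020409030204000302040483020401030204060602020001830408010204048302040003020409030204018302040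
noncomputable def xs : List (List ℕ) := [[nat_lit 11], [nat_lit 7, nat_lit 11, nat_lit 8, nat_lit 9, nat_lit 11, nat_lit 14, nat_lit 15], [nat_lit 16], [nat_lit 0, nat_lit 9], [nat_lit 7, nat_lit 6, nat_lit 11], [nat_lit 0], [nat_lit 7, nat_lit 13, nat_lit 11, nat_lit 14, nat_lit 14], [nat_lit 3, nat_lit 9], [nat_lit 1, nat_lit 12], [nat_lit 4], [], [nat_lit 7, nat_lit 11], [nat_lit 10, nat_lit 11, nat_lit 7], [nat_lit 7, nat_lit 6, nat_lit 12], [nat_lit 9, nat_lit 7, nat_lit 10]]
noncomputable def R : Reps := ⟨nat_lit 17, nat_lit 15, xs⟩

end Cfsg.Agent.Comp.M12y
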