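import Cfsg.Agent.Comp.M12y.Chk0

set_option autoImplicit false
set_option maxRecDepth 100000
set_option Elab.async false

namespace Cfsg.Agent.Comp.M12y

theorem hs : ∀ j, j < J.N' → J.slpAt j = true := (range_step (lo := 0) 17 range_start s0)

theorem chain5 {Γ X : Type*} [Group Γ] [MulAction Γ X] {T : Lst X J.n} {gen : ℕ → Γ} {A : Subgroup Γ} (h : J.Model T gen A) : ChainOK h.M J.E (J.el gen) [] := trivial

theorem chain4 {Γ X : Type*} [Group Γ] [MulAction Γ X] {T : Lst X J.n} {gen : ℕ → Γ} {A : Subgroup Γ} (h : J.Model T gen A) : ChainOK h.M J.E (J.el gen) [L4] :=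
  h.chain_cons hs (chain5 h) l4 (range_step (lo := 0) 8 range_start q4_0)

theorem chain3 {Γ X : Type*} [Group Γ] [MulAction Γ X] {T : Lst X J.n} {gen : ℕ → Γ} {A : Subgroup Γ} (h : J.Model T gen A) : ChainOK h.M J.E (J.el gen) [L3, L4] :=
  h.chain_cons hs (chain4 h) l3 (range_step (lo := 0) 9 range_start q3_0)

theorem chain2 {Γ X : Type*} [Group Γ] [MulAction Γ X] {T : Lst X J.n} {gen : ℕ → Γ} {A : Subgroup Γ} (h : J.Model T gen A) : ChainOK h.M J.E (J.el gen) [L2, L3, L4] :=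
  h.chain_cons hs (chain3 h) l2 (range_step (lo := 0) 10 range_start q2_0)

theorem chain1 {Γ X : Type*} [Group Γ] [MulAction Γ X] {T : Lst X J.n} {gen : ℕ → Γ} {A : Subgroup Γ} (h : J.Model T gen A) : ChainOK h.M J.E (J.el gen) [L1, L2, L3, L4] :=
  h.chain_cons hs (chain2 h) l1 (range_step (lo := 0) 11 range_start q1_0)

theorem chain0 {Γ X : Type*} [Group Γ] [MulAction Γ X] {T : Lst X J.n} {gen : ℕ → Γ} {A : Subgroup Γ} (h : J.Model T gen A) : ChainOK h.M J.E (J.el gen) [L0, L1, L2, L3, L4] :=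
  h.chain_cons hs (chain1 h) l0 (range_step (lo := 0) 12 range_start q0_0)

theorem GpL_eq {Γ : Type*} [Group Γ] (gen : ℕ → Γ) : GpL (J.el gen) [L0, L1, L2, L3, L4] = J.G gen := Job.GpL_top rfl rfl

theorem card {Γ X : Type*} [Group Γ] [MulAction Γ X] {T : Lst X J.n} {gen : ℕ → Γ} {A : Subgroup Γ} (h : J.Model T gen A) : Nat.card (J.G gen) = 95040 := by
  rw [← GpL_eq, (chain0 h).card]; rfl

theorem finite {Γ X : Type*} [Group Γ] [MulAction Γ X] {T : Lst X J.n} {gen : ℕ → Γ} {A : Subgroup Γ} (h : J.Model T gen A) : Finite (J.G gen) := by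
  rw [← GpL_eq]; exact (chain0 h).finite

theorem ctx {Γ X : Type*} [Group Γ] [MulAction Γ X] {T : Lst X J.n} {gen : ℕ → Γ} {A : Subgroup Γ} (h : J.Model T gen A) : Ctx h.M J.E (J.el gen) [L0, L1, L2, L3, L4] R :=
  h.ctx hs (chain0 h) rfl rfl rp

theorem cov30 {Γ X : Type*} [Group Γ] [MulAction Γ X] {T : Lst X J.n} {gen : ℕ → Γ} {A : Subgroup Γ} (h : J.Model T gen A) : Cov h.M (J.el gen) [L0, L1, L2, L3, L4] R [nat_lit 104, nat_lit 64, nat_lit 32, nat_lit 48] :=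
  cov_full (ctx h) n30

theorem cov29 {Γ X : Type*} [Group Γ] [MulAction Γ X] {T : Lst X J.n} {gen : ℕ → Γ} {A : Subgroup Γ} (h : J.Model T gen A) : Cov h.M (J.el gen) [L0, L1, L2, L3, L4] R [nat_lit 104, nat_lit 64, nat_lit 32, nat_lit 0] :=
  cov_full (ctx h) n29

theorem cov28 {Γ X : Type*} [Group Γ] [MulAction Γ X] {T : Lst X J.n} {gen : ℕ → Γ} {A : Subgroup Γ} (h : J.Model T gen A) : Cov h.M (J.el gen) [L0, L1, L2, L3, L4] R [nat_lit 104, nat_lit 64, nat_lit 32] :=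
  cov_red (ctx h) h.hAV n28 (forall_mem_cons' (cov29 h) (forall_mem_cons' (cov30 h) forall_mem_nil'))

theorem cov27 {Γ X : Type*} [Group Γ] [MulAction Γ X] {T : Lst X J.n} {gen : ℕ → Γ} {A : Subgroup Γ} (h : J.Model T gen A) : Cov h.M (J.el gen) [L0, L1, L2, L3, L4] R [nat_lit 104, nat_lit 64, nat_lit 48, nat_lit 32] :=
  cov_full (ctx h) n27

theorem cov26 {Γ X : Type*} [Group Γ] [MulAction Γ X] {T : Lst X J.n} {gen : ℕ → Γ} {A : Subgroup Γ} (h : J.Model T gen A) : Cov h.M (J.el gen) [L0, L1, L2, L3, L4] R [nat_lit 104, nat_lit 64, nat_lit 48, nat_lit 72] :=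
  cov_full (ctx h) n26

theorem cov25 {Γ X : Type*} [Group Γ] [MulAction Γ X] {T : Lst X J.n} {gen : ℕ → Γ} {A : Subgroup Γ} (h : J.Model T gen A) : Cov h.M (J.el gen) [L0, L1, L2, L3, L4] R [nat_lit 104, nat_lit 64, nat_lit 48] :=
  cov_red (ctx h) h.hAV n25 (forall_mem_cons' (cov26 h) (forall_mem_cons' (cov27 h) forall_mem_nil'))

theorem cov24 {Γ X : Type*} [Group Γ] [MulAction Γ X] {T : Lst X J.n} {gen : ℕ → Γ} {A : Subgroup Γ} (h : J.Model T gen A) : Cov h.M (J.el gen) [L0, L1, L2, L3, L4] R [nat_lit 104, nat_lit 64] :=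
  cov_red (ctx h) h.hAV n24 (forall_mem_cons' (cov25 h) (forall_mem_cons' (cov28 h) forall_mem_nil'))

theorem cov23 {Γ X : Type*} [Group Γ] [MulAction Γ X] {T : Lst X J.n} {gen : ℕ → Γ} {A : Subgroup Γ} (h : J.Model T gen A) : Cov h.M (J.el gen) [L0, L1, L2, L3, L4] R [nat_lit 104, nat_lit 32, nat_lit 64, nat_lit 48] :=
  cov_full (ctx h) n23

theorem cov22 {Γ X : Type*} [Group Γ] [MulAction Γ X] {T : Lst X J.n} {gen : ℕ → Γ} {A : Subgroup Γ} (h : J.Model T gen A) : Cov h.M (J.el gen) [L0, L1, L2, L3, L4] R [nat_lit 104, nat_lit 32, nat_lit 64, nat_lit 96] :=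
  cov_full (ctx h) n22

theorem cov21 {Γ X : Type*} [Group Γ] [MulAction Γ X] {T : Lst X J.n} {gen : ℕ → Γ} {A : Subgroup Γ} (h : J.Model T gen A) : Cov h.M (J.el gen) [L0, L1, L2, L3, L4] R [nat_lit 104, nat_lit 32, nat_lit 64] :=
  cov_red (ctx h) h.hAV n21 (forall_mem_cons' (cov22 h) (forall_mem_cons' (cov23 h) forall_mem_nil'))

theorem cov20 {Γ X : Type*} [Group Γ] [MulAction Γ X] {T : Lst X J.n} {gen : ℕ → Γ} {A : Subgroup Γ} (h : J.Model T gen A) : Cov h.M (J.el gen) [L0, L1, L2, L3, L4] R [nat_lit 104, nat_lit 32, nat_lit 48, nat_lit 64] :=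
  cov_full (ctx h) n20

theorem cov19 {Γ X : Type*} [Group Γ] [MulAction Γ X] {T : Lst X J.n} {gen : ℕ → Γ} {A : Subgroup Γ} (h : J.Model T gen A) : Cov h.M (J.el gen) [L0, L1, L2, L3, L4] R [nat_lit 104, nat_lit 32, nat_lit 48, nat_lit 16] :=
  cov_full (ctx h) n19

theorem cov18 {Γ X : Type*} [Group Γ] [MulAction Γ X] {T : Lst X J.n} {gen : ℕ → Γ} {A : Subgroup Γ} (h : J.Model T gen A) : Cov h.M (J.el gen) [L0, L1, L2, L3, L4] R [nat_lit 104, nat_lit 32, nat_lit 48] :=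
  cov_red (ctx h) h.hAV n18 (forall_mem_cons' (cov19 h) (forall_mem_cons' (cov20 h) forall_mem_nil'))

theorem cov17 {Γ X : Type*} [Group Γ] [MulAction Γ X] {T : Lst X J.n} {gen : ℕ → Γ} {A : Subgroup Γ} (h : J.Model T gen A) : Cov h.M (J.el gen) [L0, L1, L2, L3, L4] R [nat_lit 104, nat_lit 32] :=
  cov_red (ctx h) h.hAV n17 (forall_mem_cons' (cov18 h) (forall_mem_cons' (cov21 h) forall_mem_nil'))

theorem cov16 {Γ X : Type*} [Group Γ] [MulAction Γ X] {T : Lst X J.n} {gen : ℕ → Γ} {A : Subgroup Γ} (h : J.Model T gen A) : Cov h.M (J.el gen) [L0, L1, L2, L3, L4] R [nat_lit 104] :=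
  cov_red (ctx h) h.hAV n16 (forall_mem_cons' (cov17 h) (forall_mem_cons' (cov24 h) forall_mem_nil'))

theorem cov15 {Γ X : Type*} [Group Γ] [MulAction Γ X] {T : Lst X J.n} {gen : ℕ → Γ} {A : Subgroup Γ} (h : J.Model T gen A) : Cov h.M (J.el gen) [L0, L1, L2, L3, L4] R [nat_lit 64, nat_lit 104, nat_lit 32, nat_lit 48] :=
  cov_full (ctx h) n15

theorem cov14 {Γ X : Type*} [Group Γ] [MulAction Γ X] {T : Lst X J.n} {gen : ℕ → Γ} {A : Subgroup Γ} (h : J.Model T gen A) : Cov h.M (J.el gen) [L0, L1, L2, L3, L4] R [nat_lit 64, nat_lit 104, nat_lit 32, nat_lit 0] :=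
  cov_full (ctx h) n14

theorem cov13 {Γ X : Type*} [Group Γ] [MulAction Γ X] {T : Lst X J.n} {gen : ℕ → Γ} {A : Subgroup Γ} (h : J.Model T gen A) : Cov h.M (J.el gen) [L0, L1, L2, L3, L4] R [nat_lit 64, nat_lit 104, nat_lit 32] :=
  cov_red (ctx h) h.hAV n13 (forall_mem_cons' (cov14 h) (forall_mem_cons' (cov15 h) forall_mem_nil'))

theorem cov12 {Γ X : Type*} [Group Γ] [MulAction Γ X] {T : Lst X J.n} {gen : ℕ → Γ} {A : Subgroup Γ} (h : J.Model T gen A) : Cov h.M (J.el gen) [L0, L1, L2, L3, L4] R [nat_lit 64, nat_lit 104, nat_lit 48, nat_lit 32] :=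
  cov_full (ctx h) n12

theorem cov11 {Γ X : Type*} [Group Γ] [MulAction Γ X] {T : Lst X J.n} {gen : ℕ → Γ} {A : Subgroup Γ} (h : J.Model T gen A) : Cov h.M (J.el gen) [L0, L1, L2, L3, L4] R [nat_lit 64, nat_lit 104, nat_lit 48, nat_lit 24] :=
  cov_full (ctx h) n11

theorem cov10 {Γ X : Type*} [Group Γ] [MulAction Γ X] {T : Lst X J.n} {gen : ℕ → Γ} {A : Subgroup Γ} (h : J.Model T gen A) : Cov h.M (J.el gen) [L0, L1, L2, L3, L4] R [nat_lit 64, nat_lit 104, nat_lit 48] :=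
  cov_red (ctx h) h.hAV n10 (forall_mem_cons' (cov11 h) (forall_mem_cons' (cov12 h) forall_mem_nil'))

theorem cov9 {Γ X : Type*} [Group Γ] [MulAction Γ X] {T : Lst X J.n} {gen : ℕ → Γ} {A : Subgroup Γ} (h : J.Model T gen A) : Cov h.M (J.el gen) [L0, L1, L2, L3, L4] R [nat_lit 64, nat_lit 104] :=
  cov_red (ctx h) h.hAV n9 (forall_mem_cons' (cov10 h) (forall_mem_cons' (cov13 h) forall_mem_nil'))

theorem cov8 {Γ X : Type*} [Group Γ] [MulAction Γ X] {T : Lst X J.n} {gen : ℕ → Γ} {A : Subgroup Γ} (h : J.Model T gen A) : Cov h.M (J.el gen) [L0, L1, L2, L3, L4] R [nat_lit 64, nat_lit 32, nat_lit 104, nat_lit 48] :=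
  cov_full (ctx h) n8

theorem cov7 {Γ X : Type*} [Group Γ] [MulAction Γ X] {T : Lst X J.n} {gen : ℕ → Γ} {A : Subgroup Γ} (h : J.Model T gen A) : Cov h.M (J.el gen) [L0, L1, L2, L3, L4] R [nat_lit 64, nat_lit 32, nat_lit 104, nat_lit 96] :=
  cov_full (ctx h) n7

theorem cov6 {Γ X : Type*} [Group Γ] [MulAction Γ X] {T : Lst X J.n} {gen : ℕ → Γ} {A : Subgroup Γ} (h : J.Model T gen A) : Cov h.M (J.el gen) [L0, L1, L2, L3, L4] R [nat_lit 64, nat_lit 32, nat_lit 104] :=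
  cov_red (ctx h) h.hAV n6 (forall_mem_cons' (cov7 h) (forall_mem_cons' (cov8 h) forall_mem_nil'))

theorem cov5 {Γ X : Type*} [Group Γ] [MulAction Γ X] {T : Lst X J.n} {gen : ℕ → Γ} {A : Subgroup Γ} (h : J.Model T gen A) : Cov h.M (J.el gen) [L0, L1, L2, L3, L4] R [nat_lit 64, nat_lit 32, nat_lit 48, nat_lit 104] :=
  cov_full (ctx h) n5

theorem cov4 {Γ X : Type*} [Group Γ] [MulAction Γ X] {T : Lst X J.n} {gen : ℕ → Γ} {A : Subgroup Γ} (h : J.Model T gen A) : Cov h.M (J.el gen) [L0, L1, L2, L3, L4] R [nat_lit 64, nat_lit 32, nat_lit 48, nat_lit 16] :=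
  cov_full (ctx h) n4

theorem cov3 {Γ X : Type*} [Group Γ] [MulAction Γ X] {T : Lst X J.n} {gen : ℕ → Γ} {A : Subgroup Γ} (h : J.Model T gen A) : Cov h.M (J.el gen) [L0, L1, L2, L3, L4] R [nat_lit 64, nat_lit 32, nat_lit 48] :=
  cov_red (ctx h) h.hAV n3 (forall_mem_cons' (cov4 h) (forall_mem_cons' (cov5 h) forall_mem_nil'))

theorem cov2 {Γ X : Type*} [Group Γ] [MulAction Γ X] {T : Lst X J.n} {gen : ℕ → Γ} {A : Subgroup Γ} (h : J.Model T gen A) : Cov h.M (J.el gen) [L0, L1, L2, L3, L4] R [nat_lit 64, nat_lit 32] :=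
  cov_red (ctx h) h.hAV n2 (forall_mem_cons' (cov3 h) (forall_mem_cons' (cov6 h) forall_mem_nil'))

theorem cov1 {Γ X : Type*} [Group Γ] [MulAction Γ X] {T : Lst X J.n} {gen : ℕ → Γ} {A : Subgroup Γ} (h : J.Model T gen A) : Cov h.M (J.el gen) [L0, L1, L2, L3, L4] R [nat_lit 64] :=
  cov_red (ctx h) h.hAV n1 (forall_mem_cons' (cov2 h) (forall_mem_cons' (cov9 h) forall_mem_nil'))

theorem cov0 {Γ X : Type*} [Group Γ] [MulAction Γ X] {T : Lst X J.n} {gen : ℕ → Γ} {A : Subgroup Γ} (h : J.Model T gen A) : Cov h.M (J.el gen) [L0, L1, L2, L3, L4] R [] :=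
  cov_red (ctx h) h.hAV n0 (forall_mem_cons' (cov1 h) (forall_mem_cons' (cov16 h) forall_mem_nil'))

theorem classes {Γ X : Type*} [Group Γ] [MulAction Γ X] {T : Lst X J.n} {gen : ℕ → Γ} {A : Subgroup Γ} (h : J.Model T gen A) : ∀ g ∈ J.G gen, ∃ j, j < 15 ∧ ∃ c ∈ J.G gen, c * g = R.x (J.el gen) j * c := by
  rw [← GpL_eq]; exact (cov0 h).all

theorem ords {Γ X : Type*} [Group Γ] [MulAction Γ X] {T : Lst X J.n} {gen : ℕ → Γ} {A : Subgroup Γ} (h : J.Model T gen A) : ∀ j, j < 15 → orderOf (R.x (J.el gen) j) = nth os j :=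
  specChk_ord (ctx h) sp

theorem spec {Γ X : Type*} [Group Γ] [MulAction Γ X] {T : Lst X J.n} {gen : ℕ → Γ} {A : Subgroup Γ} (h : J.Model T gen A) : Set.range (orderOf : J.G gen → ℕ) = {n | n ∈ [1, 2, 3, 4, 5, 6, 8, 10, 11]} := by
  rw [← GpL_eq]; exact spec_of_chk (ctx h) (cov0 h) sp

end Cfsg.Agent.Comp.M12y
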